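import Groth.Prelude.Def_TwC
import Groth.Agent.EtFound.Descent
import Mathlib.AlgebraicGeometry.Morphisms.LocalFlatDescent

/-!
# Twisted constant schemes: separated and etale
-/

set_option autoImplicit false
set_option linter.style.haveILetI false

universe u

open CategoryTheory CategoryTheory.Limits AlgebraicGeometry MorphismProperty

namespace Groth.Agent.TwC10

set_option backward.isDefEq.respectTransparency.types false

variable {S : Scheme.{u}}

theorem etale_sigmaDesc (S : Scheme.{u}) (I : Type u) : Etale (Sigma.desc fun _ : I => 𝟙 S) := by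
  rw [IsZariskiLocalAtSource.iff_of_openCover (P := @Etale) (sigmaOpenCover fun _ : I => S)]
  intro i
  show Etale (Sigma.ι (fun _ : I => S) i ≫ Sigma.desc fun _ : I => 𝟙 S)
  rw [Sigma.ι_desc]
  infer_instance

theorem eq_desc_comp_of_range {Z : Scheme.{u}} {I : Type u} (a : Z ⟶ ∐ fun _ : I => S) (i : I)
    (h : ∀ z, a z ∈ (Sigma.ι (fun _ : I => S) i).opensRange) :
    a = (a ≫ Sigma.desc fun _ : I => 𝟙 S) ≫ Sigma.ι (fun _ : I => S) i := by
  have hr : Set.range a ⊆ Set.range (Sigma.ι (fun _ : I => S) i) := by rintro _ ⟨z, rfl⟩; exact h z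
  conv_lhs => rw [← IsOpenImmersion.lift_fac _ a hr]
  congr 1
  conv_rhs => rw [← IsOpenImmersion.lift_fac _ a hr, Category.assoc, Sigma.ι_desc, Category.comp_id]

theorem isSeparated_sigmaDesc (S : Scheme.{u}) (I : Type u) : IsSeparated (Sigma.desc fun _ : I => 𝟙 S) := by
  let d := Sigma.desc fun _ : I => 𝟙 S
  refine ⟨IsClosedImmersion.of_isPreimmersion _ ⟨?_⟩⟩
  have hr : (Set.range (pullback.diagonal d))ᶜ = ⋃ (i : I) (j : I) (_ : i ≠ j),
      (pullback.fst d d ⁻¹' (Sigma.ι (fun _ : I => S) i).opensRange) ∩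
        (pullback.snd d d ⁻¹' (Sigma.ι (fun _ : I => S) j).opensRange) := by
    ext p
    simp only [Set.mem_compl_iff, Set.mem_iUnion, Set.mem_inter_iff, Set.mem_preimage]
    obtain ⟨⟨i, y⟩, hy⟩ := (sigmaMk fun _ : I => S).surjective (pullback.fst d d p)
    obtain ⟨⟨j, z⟩, hz⟩ := (sigmaMk fun _ : I => S).surjective (pullback.snd d d p)
    rw [sigmaMk_mk] at hy hz
    constructor
    · intro hp
      refine ⟨i, j, fun hij => hp ?_, ⟨y, hy⟩, ⟨z, hz⟩⟩
      subst hij
      let r := (pullback d d).fromSpecResidueField p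
      have hrp : ∀ t, r t = p := fun t => Scheme.fromSpecResidueField_apply p t
      have ha := eq_desc_comp_of_range (r ≫ pullback.fst d d) i fun t => ⟨y, by
        rw [Scheme.Hom.comp_apply, hrp]; exact hy⟩
      have hb := eq_desc_comp_of_range (r ≫ pullback.snd d d) i fun t => ⟨z, by
        rw [Scheme.Hom.comp_apply, hrp]; exact hz⟩
      have hab : r ≫ pullback.fst d d = r ≫ pullback.snd d d := by
        rw [ha, hb, Category.assoc, Category.assoc]
        show (r ≫ pullback.fst d d ≫ d) ≫ _ = (r ≫ pullback.snd d d ≫ d) ≫ _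
        rw [pullback.condition]
      have hd : r = (r ≫ pullback.fst d d) ≫ pullback.diagonal d := by
        apply pullback.hom_ext
        · rw [Category.assoc, pullback.diagonal_fst, Category.comp_id]
        · rw [Category.assoc, pullback.diagonal_snd, Category.comp_id, hab]
      obtain ⟨t⟩ : Nonempty (Spec ((pullback d d).residueField p)) := inferInstance
      refine ⟨(r ≫ pullback.fst d d) t, ?_⟩
      rw [← Scheme.Hom.comp_apply, ← hd, hrp]
    · rintro ⟨i', j', hne, h1, h2⟩ ⟨w, rfl⟩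
      rw [← Scheme.Hom.comp_apply, pullback.diagonal_fst] at h1
      rw [← Scheme.Hom.comp_apply, pullback.diagonal_snd] at h2
      exact (TopologicalSpace.Opens.coe_disjoint.2
        (disjoint_opensRange_sigmaι (fun _ : I => S) i' j' hne)).le_bot ⟨h1, h2⟩
  rw [hr]
  exact isOpen_iUnion fun i => isOpen_iUnion fun j => isOpen_iUnion fun _ =>
    ((Sigma.ι (fun _ : I => S) i).opensRange.2.preimage (pullback.fst d d).continuous).inter
      ((Sigma.ι (fun _ : I => S) j).opensRange.2.preimage (pullback.snd d d).continuous)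

/-- A point of the base has an affine neighbourhood covered by an affine etale piece over a trivialising map. -/
theorem exists_cover_nhd {S' : Scheme.{u}} (f : S' ⟶ S) [Etale f] {s : S} (hs : s ∈ Set.range f) :
    ∃ (V : S.Opens) (W : S'.Opens) (e : W ≤ f ⁻¹ᵁ V), s ∈ V ∧ Flat (f.resLE V W e) ∧
      Surjective (f.resLE V W e) ∧ QuasiCompact (f.resLE V W e) := by
  obtain ⟨s', rfl⟩ := hs
  obtain ⟨A, hA, hsA, -⟩ := exists_isAffineOpen_mem_and_subset (x := f s') (U := ⊤) trivial
  obtain ⟨W₀, hW₀, hs'W₀, hW₀A⟩ := exists_isAffineOpen_mem_and_subset (x := s') (U := f ⁻¹ᵁ A) hsA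
  obtain ⟨a, ha, hsa⟩ := hA.exists_basicOpen_le (V := ⟨f '' W₀, f.isOpenMap _ W₀.2⟩) ⟨f s', ⟨s', hs'W₀, rfl⟩⟩ hsA
  let V := S.basicOpen a
  let W := W₀ ⊓ f ⁻¹ᵁ V
  have e : W ≤ f ⁻¹ᵁ V := inf_le_right
  have hW : IsAffineOpen W := by
    have : W = S'.basicOpen (f.appLE A W₀ hW₀A a) := by
      rw [Scheme.basicOpen_appLE]
    rw [this]
    exact hW₀.basicOpen _
  haveI : IsAffine (V : Scheme.{u}) := hA.basicOpen a
  haveI : CompactSpace (W : Scheme.{u}) := isCompact_iff_compactSpace.mp hW.isCompact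
  refine ⟨V, W, e, hsa, ?_, ⟨fun v => ?_⟩, (quasiCompact_iff_compactSpace _).mpr inferInstance⟩
  · haveI : Flat (f.resLE V W e ≫ V.ι) := by rw [Scheme.Hom.resLE_comp_ι]; infer_instance
    exact MorphismProperty.of_postcomp (W := @Flat) (W' := @IsOpenImmersion) _ V.ι inferInstance ‹_›
  · obtain ⟨w, hw, hwv⟩ := ha v.2
    refine ⟨⟨w, hw, show f w ∈ V by rw [hwv]; exact v.2⟩, V.ι.isOpenEmbedding.injective ?_⟩
    rw [← Scheme.Hom.comp_apply, Scheme.Hom.resLE_comp_ι, Scheme.Hom.comp_apply]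
    exact hwv

theorem of_locally_const (P : MorphismProperty Scheme.{u}) [IsZariskiLocalAtTarget P]
    [P.DescendsAlong (@Surjective ⊓ @Flat ⊓ @QuasiCompact)]
    (hP : ∀ (T : Scheme.{u}) (I : Type u), P (Sigma.desc fun _ : I => 𝟙 T))
    {X : Over S} (hX : TwC.IsTwConst TwC.Topology.etale X) : P X.hom := by
  choose S' f hf hsf I he using hX
  have hcov := fun s => haveI := hf s; exists_cover_nhd (f s) (hsf s)
  choose V W e hsV hfl hsu hqc using hcov
  rw [IsZariskiLocalAtTarget.iff_of_iSup_eq_top (P := P) V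
    (eq_top_iff.mpr fun s _ => TopologicalSpace.Opens.mem_iSup.mpr ⟨s, hsV s⟩)]
  intro s
  obtain ⟨g⟩ := he s
  refine MorphismProperty.of_pullback_fst_of_descendsAlong (P := P)
    (Q := @Surjective ⊓ @Flat ⊓ @QuasiCompact) (f := (f s).resLE (V s) (W s) (e s)) (g := X.hom ∣_ V s)
    ⟨⟨hsu s, hfl s⟩, hqc s⟩ ?_
  have hsnd : P (pullback.snd X.hom (f s)) := by
    have hw : g.hom.left ≫ (Sigma.desc fun _ : I s => 𝟙 (S' s)) = pullback.snd X.hom (f s) := Over.w g.hom
    rw [← hw, P.cancel_left_of_respectsIso]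
    exact hP _ _
  have h1 : IsPullback (pullback.fst ((f s).resLE (V s) (W s) (e s)) (X.hom ∣_ V s))
      (pullback.snd ((f s).resLE (V s) (W s) (e s)) (X.hom ∣_ V s) ≫ (X.hom ⁻¹ᵁ V s).ι)
      ((W s).ι ≫ f s) X.hom := by
    rw [← Scheme.Hom.resLE_comp_ι (f s) (e s)]
    exact (IsPullback.of_hasPullback _ _).paste_vert (isPullback_morphismRestrict X.hom (V s))
  have h2 : IsPullback (pullback.snd X.hom (f s) ∣_ W s)
      ((pullback.snd X.hom (f s) ⁻¹ᵁ W s).ι ≫ pullback.fst X.hom (f s)) ((W s).ι ≫ f s) X.hom :=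
    (isPullback_morphismRestrict (pullback.snd X.hom (f s)) (W s)).paste_vert
      (IsPullback.of_hasPullback X.hom (f s)).flip
  rw [← h1.isoIsPullback_hom_fst _ _ h2, P.cancel_left_of_respectsIso]
  exact IsZariskiLocalAtTarget.restrict hsnd _

theorem etale_of_twConst {X : Over S} (hX : TwC.IsTwConst TwC.Topology.etale X) : Etale X.hom :=
  of_locally_const @Etale etale_sigmaDesc hX

theorem isSeparated_of_twConst {X : Over S} (hX : TwC.IsTwConst TwC.Topology.etale X) : IsSeparated X.hom :=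
  haveI := EtFound.fpqc_isSeparated.{u}
  of_locally_const @IsSeparated isSeparated_sigmaDesc hX

end Groth.Agent.TwC10
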