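import Groth.Agent.TwC10.Basic
import Mathlib.AlgebraicGeometry.ValuativeCriterion
import Mathlib.AlgebraicGeometry.Morphisms.Flat

/-!
# Twisted constant schemes: the valuative criterion
-/

set_option autoImplicit false
set_option linter.style.haveILetI false

universe u

open CategoryTheory CategoryTheory.Limits AlgebraicGeometry

namespace Groth.Agent.TwC10

set_option backward.isDefEq.respectTransparency.types false

variable {S : Scheme.{u}}

/-- Specialisations of the base lift to base changes of twisted constant schemes. -/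
theorem exists_specializes {X : Over S} (hX : TwC.IsTwConst TwC.Topology.etale X) {T : Scheme.{u}} (h : T ⟶ S)
    (x : (pullback X.hom h : Scheme.{u})) {t : T} (ht : pullback.snd X.hom h x ⤳ t) :
    ∃ y : (pullback X.hom h : Scheme.{u}), x ⤳ y ∧ pullback.snd X.hom h y = t := by
  obtain ⟨S', f, hf, ⟨s', hs'⟩, I, ⟨g⟩⟩ := hX (h t)
  haveI := hf
  obtain ⟨t', ht'₁, ht'₂⟩ := Scheme.Pullback.exists_preimage_pullback t s' (f := h) (g := f) hs'.symm
  haveI : Flat (pullback.fst h f) := inferInstance
  obtain ⟨η', hη', hη'x⟩ := Flat.generalizingMap (pullback.fst h f) (ht'₁.symm ▸ ht :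
    pullback.snd X.hom h x ⤳ pullback.fst h f t')
  obtain ⟨z, hz₁, hz₂⟩ := Scheme.Pullback.exists_preimage_pullback x η' (f := pullback.snd X.hom h)
    (g := pullback.fst h f) hη'x.symm
  let A := pullback.fst (pullback.snd X.hom h) (pullback.fst h f)
  let B := pullback.snd (pullback.snd X.hom h) (pullback.fst h f)
  let w : pullback (pullback.snd X.hom h) (pullback.fst h f) ⟶ pullback X.hom f :=
    pullback.lift (A ≫ pullback.fst X.hom h) (B ≫ pullback.snd h f) (by
      rw [Category.assoc, Category.assoc, pullback.condition, ← pullback.condition (f := h) (g := f)]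
      exact pullback.condition_assoc (f := pullback.snd X.hom h) (g := pullback.fst h f) h)
  obtain ⟨⟨m, y0⟩, hy0⟩ := (sigmaMk fun _ : I => S').surjective ((w ≫ g.hom.left) z)
  rw [sigmaMk_mk] at hy0
  have hginv : (Sigma.ι (fun _ : I => S') m ≫ g.inv.left) ≫ pullback.snd X.hom f = 𝟙 S' := by
    rw [Category.assoc]
    refine (congrArg (Sigma.ι (fun _ : I => S') m ≫ ·) (Over.w g.inv)).trans ?_
    exact Sigma.ι_desc _ _
  let σ : pullback h f ⟶ pullback X.hom h :=
    pullback.lift (pullback.snd h f ≫ (Sigma.ι (fun _ : I => S') m ≫ g.inv.left) ≫ pullback.fst X.hom f)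
      (pullback.fst h f) (by
        simp only [Category.assoc, pullback.condition]
        rw [reassoc_of% hginv])
  let r := (pullback (pullback.snd X.hom h) (pullback.fst h f)).fromSpecResidueField z
  have hrz : ∀ p, r p = z := fun p => Scheme.fromSpecResidueField_apply z p
  have hdesc : g.hom.left ≫ (Sigma.desc fun _ : I => 𝟙 S') = pullback.snd X.hom f := Over.w g.hom
  have hw : r ≫ w = (r ≫ B ≫ pullback.snd h f) ≫ Sigma.ι (fun _ : I => S') m ≫ g.inv.left := by
    have h1 := eq_desc_comp_of_range (r ≫ w ≫ g.hom.left) m fun p => ⟨y0, by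
      rw [Scheme.Hom.comp_apply, hrz]; exact hy0⟩
    have hi : g.hom.left ≫ g.inv.left = 𝟙 _ := by rw [← Over.comp_left, g.hom_inv_id]; rfl
    have h2 := congrArg (· ≫ g.inv.left) h1
    simp only [Category.assoc, hi, reassoc_of% hdesc] at h2
    rw [show r ≫ B ≫ pullback.snd h f = r ≫ w ≫ pullback.snd X.hom f from
      congrArg (r ≫ ·) (pullback.lift_snd _ _ _).symm, Category.assoc, Category.assoc]
    exact (congrArg (r ≫ ·) (Category.comp_id w)).symm.trans h2
  have hA : r ≫ A = r ≫ B ≫ σ := by
    apply pullback.hom_ext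
    · have h3 := congrArg (· ≫ pullback.fst X.hom f) hw
      simp only [Category.assoc] at h3 ⊢
      rw [pullback.lift_fst] at h3
      simp only [σ, pullback.lift_fst, Category.assoc]
      exact h3
    · simp only [σ, Category.assoc, pullback.lift_snd]
      rw [show A ≫ pullback.snd X.hom h = B ≫ pullback.fst h f from pullback.condition]
  have hx : x = σ η' := by
    obtain ⟨p⟩ : Nonempty (Spec ((pullback (pullback.snd X.hom h) (pullback.fst h f)).residueField z)) :=
      inferInstance
    have := congrArg (fun k => k p) hA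
    simp only [Scheme.Hom.comp_apply, hrz] at this
    rwa [hz₁, hz₂] at this
  refine ⟨σ t', hx ▸ hη'.map σ.continuous, ?_⟩
  rw [← Scheme.Hom.comp_apply, pullback.lift_snd, ht'₁]

/-- A rational point of a scheme over a valuation ring which specialises into the closed fibre extends. -/
theorem exists_section_of_specializes {R K : Type u} [CommRing R] [IsDomain R] [ValuationRing R] [Field K]
    [Algebra R K] [IsFractionRing R K] {P : Scheme.{u}} (p : P ⟶ Spec (CommRingCat.of R))
    (q : Spec (CommRingCat.of K) ⟶ P) (hq : q ≫ p = Spec.map (CommRingCat.ofHom (algebraMap R K)))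
    (y : P) (hy : q (IsLocalRing.closedPoint K) ⤳ y) (hyc : p y = IsLocalRing.closedPoint R) :
    ∃ v : Spec (CommRingCat.of R) ⟶ P, v ≫ p = 𝟙 _ ∧ Spec.map (CommRingCat.ofHom (algebraMap R K)) ≫ v = q := by
  let φ : CommRingCat.of R ⟶ P.presheaf.stalk y := Spec.preimage (P.fromSpecStalk y ≫ p)
  have hφ : Spec.map φ = P.fromSpecStalk y ≫ p := Spec.map_preimage _
  let ψ : P.presheaf.stalk y ⟶ CommRingCat.of K := P.presheaf.stalkSpecializes hy ≫ Scheme.stalkClosedPointTo q
  have hψ : Spec.map ψ ≫ P.fromSpecStalk y = q := by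
    simp only [ψ, Spec.map_comp, Category.assoc, Scheme.SpecMap_stalkSpecializes_fromSpecStalk]
    exact Scheme.Spec_stalkClosedPointTo_fromSpecStalk q
  have hφψ : φ ≫ ψ = CommRingCat.ofHom (algebraMap R K) := by
    apply Spec.map_injective
    rw [Spec.map_comp, hφ, reassoc_of% hψ, hq]
  have hm : ∀ a ∈ IsLocalRing.maximalIdeal R, φ a ∈ IsLocalRing.maximalIdeal (P.presheaf.stalk y) := by
    intro a ha
    have h := congrArg (fun k => k (IsLocalRing.closedPoint (P.presheaf.stalk y))) hφ
    simp only [Scheme.Hom.comp_apply, Scheme.fromSpecStalk_closedPoint, hyc] at h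
    have h' := congrArg PrimeSpectrum.asIdeal h
    show a ∈ ((Spec.map φ) (IsLocalRing.closedPoint (P.presheaf.stalk y))).asIdeal
    rw [h']
    exact ha
  have hφψ' : ∀ a, ψ (φ a) = algebraMap R K a := fun a => congrArg (fun k => k a) hφψ
  have hmem : ∀ b, ∃ a, algebraMap R K a = ψ b := by
    intro b
    rcases ValuationRing.isInteger_or_isInteger R (ψ b) with hb | ⟨a, ha⟩
    · exact hb
    by_cases hau : IsUnit a
    · obtain ⟨u, rfl⟩ := hau
      refine ⟨(u⁻¹ : Rˣ), ?_⟩
      rw [map_units_inv, ha, inv_inv]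
    · by_cases hb0 : ψ b = 0
      · exact ⟨0, by rw [map_zero, hb0]⟩
      exfalso
      have h1 : φ a * b ∈ IsLocalRing.maximalIdeal (P.presheaf.stalk y) :=
        Ideal.mul_mem_right _ _ (hm a hau)
      have h2 : ψ (φ a * b - 1) = 0 := by
        rw [map_sub, map_mul, map_one, hφψ', ha, inv_mul_cancel₀ hb0, sub_self]
      have h3 : ¬IsUnit (φ a * b - 1) := fun hu => (hu.map ψ.hom).ne_zero h2
      have h4 := Ideal.sub_mem _ h1 ((IsLocalRing.mem_maximalIdeal _).mpr h3)
      rw [sub_sub_cancel] at h4
      exact (IsLocalRing.mem_maximalIdeal _).mp h4 isUnit_one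
  choose j hj using hmem
  have hR := IsFractionRing.injective R K
  let χ : P.presheaf.stalk y ⟶ CommRingCat.of R := CommRingCat.ofHom
    { toFun := j
      map_one' := hR ((hj 1).trans ((map_one ψ.hom).trans (map_one (algebraMap R K)).symm))
      map_mul' := fun a b => hR ((hj _).trans ((map_mul ψ.hom a b).trans
        ((congrArg₂ (· * ·) (hj a).symm (hj b).symm).trans (map_mul (algebraMap R K) _ _).symm)))
      map_zero' := hR ((hj 0).trans ((map_zero ψ.hom).trans (map_zero (algebraMap R K)).symm))
      map_add' := fun a b => hR ((hj _).trans ((map_add ψ.hom a b).trans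
        ((congrArg₂ (· + ·) (hj a).symm (hj b).symm).trans (map_add (algebraMap R K) _ _).symm))) }
  refine ⟨Spec.map χ ≫ P.fromSpecStalk y, ?_, ?_⟩
  · rw [Category.assoc, ← hφ, ← Spec.map_comp, ← Spec.map_id]
    congr 1
    ext a
    exact hR ((hj (φ a)).trans (hφψ' a))
  · rw [← Category.assoc, ← Spec.map_comp, show χ ≫ CommRingCat.ofHom (algebraMap R K) = ψ from by ext b; exact hj b, hψ]

theorem valuativeCriterion_of_twConst {X : Over S} (hX : TwC.IsTwConst TwC.Topology.etale X) :
    ValuativeCriterion X.hom := by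
  haveI := isSeparated_of_twConst hX
  refine ValuativeCriterion.iff.mpr ⟨fun sq => ?_, IsSeparated.valuativeCriterion _⟩
  let q := pullback.lift sq.i₁ (Spec.map (CommRingCat.ofHom (algebraMap sq.R sq.K))) sq.commSq.w
  obtain ⟨y, hy, hyc⟩ := exists_specializes hX sq.i₂ (q (IsLocalRing.closedPoint sq.K))
    (t := IsLocalRing.closedPoint sq.R) (IsLocalRing.specializes_closedPoint _)
  obtain ⟨v, hv₁, hv₂⟩ := exists_section_of_specializes (pullback.snd X.hom sq.i₂) q (pullback.lift_snd _ _ _)
    y hy hyc
  exact ⟨⟨⟨v ≫ pullback.fst X.hom sq.i₂,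
    by rw [reassoc_of% hv₂, pullback.lift_fst],
    by rw [Category.assoc, pullback.condition, reassoc_of% hv₁]⟩⟩⟩

end Groth.Agent.TwC10
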