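import Groth.Agent.TwC10.Valuative
import Groth.Agent.UnibEtale.Comp
import Groth.Agent.UnibEtale.Chart
import Groth.Agent.H23.FinCondSch
import Groth.Agent.GrpSchLib.TwConstClosed
import Mathlib.AlgebraicGeometry.Morphisms.FlatMono

/-!
# Twisted constant schemes over an irreducible geometrically unibranch base
-/

set_option autoImplicit false
set_option linter.style.haveILetI false
set_option linter.unusedSectionVars false

universe u

open CategoryTheory CategoryTheory.Limits AlgebraicGeometry

namespace Groth.Agent.TwC10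

set_option backward.isDefEq.respectTransparency.types false

variable {S : Scheme.{u}} [IrreducibleSpace S] (hS : ∀ s : S, CAlg2.IsGeomUnibranch (S.presheaf.stalk s))

include hS in
theorem nilradical_isPrime_of_etale {X : Scheme.{u}} (f : X ⟶ S) [Etale f] (x : X) :
    (nilradical (X.presheaf.stalk x)).IsPrime := by
  haveI : Etale ((⊤ : X.Opens).ι ≫ f) := inferInstance
  exact (Ideal.Quotient.isDomain_iff_prime _).mp (UnibEtale.stalk_of_etale f x ⊤ trivial (hS _)).1.1.1

variable {X : Over S} (hX : TwC.IsTwConst TwC.Topology.etale X)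
include hS hX

theorem comp_data :
    (∀ x : X.left, ∃! Z, Z ∈ irreducibleComponents ↥X.left ∧ x ∈ Z) ∧
    (∀ Z ∈ irreducibleComponents ↥X.left, IsOpen Z ∧ ∃! x : X.left, x ∈ Z ∧ X.hom.base x = genericPoint S) := by
  haveI := etale_of_twConst hX
  haveI := UnibEtale.locallyQuasiFinite_of_formallyUnramified X.hom
  exact UnibEtale.components X.hom (nilradical_isPrime_of_etale hS X.hom)

theorem closure_eq_component (l : X.left) (hl : X.hom l = genericPoint S) :
    ∃ Z ∈ irreducibleComponents ↥X.left, closure {l} = Z := by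
  haveI := etale_of_twConst hX
  haveI := UnibEtale.locallyQuasiFinite_of_formallyUnramified X.hom
  obtain ⟨h1, h2⟩ := comp_data hS hX
  have hZ := irreducibleComponent_mem_irreducibleComponents l
  refine ⟨_, hZ, ?_⟩
  have hg := hZ.1.isGenericPoint_genericPoint (isClosed_of_mem_irreducibleComponents _ hZ)
  have := (h2 _ hZ).2.unique ⟨mem_irreducibleComponent, hl⟩ ⟨hg.mem, UnibEtale.map_generic X.hom hZ hg⟩
  exact (congrArg (fun z => closure ({z} : Set X.left)) this).trans hg.def

theorem existsUnique_generic (x : X.left) :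
    ∃! l : X.left, X.hom.base l = genericPoint S ∧ x ∈ closure ({l} : Set X.left) := by
  obtain ⟨h1, h2⟩ := comp_data hS hX
  obtain ⟨Z, ⟨hZ, hxZ⟩, -⟩ := h1 x
  obtain ⟨l, ⟨hlZ, hl⟩, -⟩ := (h2 Z hZ).2
  refine ⟨l, ⟨hl, ?_⟩, fun l' ⟨hl', hx'⟩ => ?_⟩
  · obtain ⟨Z', hZ', e⟩ := closure_eq_component hS hX l hl
    have hlZ' : l ∈ Z' := e ▸ subset_closure rfl
    rw [e, (h1 l).unique ⟨hZ', hlZ'⟩ ⟨hZ, hlZ⟩]
    exact hxZ
  · obtain ⟨Z', hZ', e⟩ := closure_eq_component hS hX l' hl'
    obtain rfl := (h1 x).unique ⟨hZ', e ▸ hx'⟩ ⟨hZ, hxZ⟩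
    exact (h2 _ hZ).2.unique ⟨e ▸ subset_closure rfl, hl'⟩ ⟨hlZ, hl⟩

theorem isOpen_closure (l : X.left) (hl : X.hom l = genericPoint S) : IsOpen (closure ({l} : Set X.left)) := by
  obtain ⟨Z, hZ, e⟩ := closure_eq_component hS hX l hl
  rw [e]
  exact ((comp_data hS hX).2 Z hZ).1

theorem quasiCompact_closure (l : X.left) (hl : X.hom l = genericPoint S) (U : X.left.Opens)
    (hU : (U : Set X.left) = closure {l}) : QuasiCompact (U.ι ≫ X.hom) := by
  haveI hXe := etale_of_twConst hX
  choose S' f hf hsf I he using hX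
  have key : ∀ s : S, ∃ V : S.Opens, IsAffineOpen V ∧ s ∈ V ∧ IsCompact ((U : Set X.left) ∩ X.hom ⁻¹' V) := by
    intro s
    obtain ⟨g⟩ := he s
    haveI := hf s
    haveI := UnibEtale.locallyQuasiFinite_of_formallyUnramified (f s)
    obtain ⟨s', hs'⟩ := hsf s
    obtain ⟨-, hc⟩ := UnibEtale.components (f s) (nilradical_isPrime_of_etale hS (f s))
    have hWc := irreducibleComponent_mem_irreducibleComponents s'
    let W : (S' s).Opens := ⟨_, (hc _ hWc).1⟩
    obtain ⟨A, hA, hsA, -⟩ := exists_isAffineOpen_mem_and_subset (x := f s s') (U := ⊤) trivial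
    obtain ⟨W₁, hW₁, hs'W₁, hW₁A⟩ := exists_isAffineOpen_mem_and_subset (x := s') (U := f s ⁻¹ᵁ A ⊓ W)
      ⟨hsA, mem_irreducibleComponent⟩
    obtain ⟨a, ha, hsa⟩ := hA.exists_basicOpen_le (V := ⟨f s '' W₁, (f s).isOpenMap _ W₁.2⟩)
      ⟨f s s', ⟨s', hs'W₁, rfl⟩⟩ hsA
    let V := S.basicOpen a
    let W₀ := W₁ ⊓ f s ⁻¹ᵁ V
    have hW₀ : IsAffineOpen W₀ := by
      have : W₀ = (S' s).basicOpen ((f s).appLE A W₁ (fun z hz => (hW₁A hz).1) a) := by
        rw [Scheme.basicOpen_appLE]
      rw [this]
      exact hW₁.basicOpen _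
    have hirr : IsIrreducible (irreducibleComponent s') := hWc.1
    have hgen := hirr.isGenericPoint_genericPoint (isClosed_of_mem_irreducibleComponents _ hWc)
    have hfη := UnibEtale.map_generic (f s) hWc hgen
    have hspec : ∀ w ∈ W₀, hirr.genericPoint ⤳ w := fun w hw => hgen.specializes (hW₁A hw.1).2
    have hs'W₀ : s' ∈ W₀ := ⟨hs'W₁, hsa⟩
    have hηW₀ : hirr.genericPoint ∈ W₀ := (hspec s' hs'W₀).mem_open W₀.2 hs'W₀
    refine ⟨V, hA.basicOpen a, hs' ▸ hsa, ?_⟩
    -- the points over the two generic points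
    let p := pullback.fst X.hom (f s)
    let q := pullback.snd X.hom (f s)
    obtain ⟨B, hB, hlB, hBV⟩ := exists_isAffineOpen_mem_and_subset (x := l) (U := X.hom ⁻¹ᵁ V)
      (show X.hom l ∈ V by rw [hl, ← hfη]; exact hηW₀.2)
    haveI : IsAffine B.toScheme := hB
    haveI : IsAffine W₀.toScheme := hW₀
    haveI : IsAffine V.toScheme := hA.basicOpen a
    let m := pullback.map (X.hom.resLE V B hBV) ((f s).resLE V W₀ (fun z hz => hz.2)) X.hom (f s) B.ι W₀.ι V.ι
      (by rw [Scheme.Hom.resLE_comp_ι]) (by rw [Scheme.Hom.resLE_comp_ι])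
    haveI : LocallyQuasiFinite (m ≫ p) := by
      haveI := UnibEtale.locallyQuasiFinite_of_formallyUnramified p
      infer_instance
    have hrange : Set.range m = p ⁻¹' (B : Set X.left) ∩ q ⁻¹' (W₀ : Set (S' s)) := by
      rw [Scheme.Pullback.range_map]; simp [p, q]
    have hmB : Set.range (m ≫ p) ⊆ Set.range B.ι := by
      rintro _ ⟨z, rfl⟩
      rw [Scheme.Opens.range_ι]
      exact (hrange ▸ ⟨z, rfl⟩ : m z ∈ p ⁻¹' (B : Set X.left) ∩ q ⁻¹' (W₀ : Set (S' s))).1
    let mB := IsOpenImmersion.lift B.ι (m ≫ p) hmB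
    haveI : QuasiCompact mB := (quasiCompact_iff_compactSpace mB).mpr inferInstance
    haveI : LocallyQuasiFinite mB := by
      haveI : LocallyQuasiFinite (mB ≫ B.ι) := by rw [IsOpenImmersion.lift_fac]; infer_instance
      exact LocallyQuasiFinite.of_comp mB B.ι
    let σ : I s → (S' s ⟶ pullback X.hom (f s)) := fun i => Sigma.ι (fun _ : I s => S' s) i ≫ g.inv.left
    have hσq : ∀ i, σ i ≫ q = 𝟙 _ := fun i => by
      show (_ ≫ g.inv.left) ≫ q = _
      rw [Category.assoc]
      exact (congrArg (_ ≫ ·) (Over.w g.inv)).trans (Sigma.ι_desc _ _)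
    have hσinj : ∀ i j w, σ i w = σ j w → i = j := fun i j w e => by
      have hi : g.inv.left ≫ g.hom.left = 𝟙 _ := by rw [← Over.comp_left, g.inv_hom_id]; rfl
      have e' := congrArg g.hom.left e
      simp only [σ, ← Scheme.Hom.comp_apply, Category.assoc, hi, Category.comp_id] at e'
      exact congrArg Sigma.fst ((sigmaMk fun _ : I s => S' s).injective (a₁ := ⟨i, w⟩) (a₂ := ⟨j, w⟩)
        (by rw [sigmaMk_mk, sigmaMk_mk]; exact e'))
    let M : Set (I s) := {i | p (σ i hirr.genericPoint) = l}
    have hM : M.Finite := by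
      refine Set.Finite.of_finite_image (f := fun i => σ i hirr.genericPoint) ?_
        fun i _ j _ e => hσinj i j _ e
      refine ((mB.finite_preimage_singleton ⟨l, hlB⟩).image m).subset ?_
      rintro _ ⟨i, hi, rfl⟩
      have hi' : σ i hirr.genericPoint ∈ Set.range m := by
        rw [hrange]
        refine ⟨show p _ ∈ B by rw [show p (σ i hirr.genericPoint) = l from hi]; exact hlB, ?_⟩
        show q (σ i _) ∈ W₀
        rw [← Scheme.Hom.comp_apply, hσq]
        exact hηW₀
      obtain ⟨z, hz⟩ := hi'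
      refine ⟨z, B.ι.injective ?_, hz⟩
      rw [← Scheme.Hom.comp_apply, IsOpenImmersion.lift_fac, Scheme.Hom.comp_apply, hz]
      exact hi
    have hC : (U : Set X.left) ∩ X.hom ⁻¹' V = ⋃ i ∈ M, (σ i ≫ p) '' (W₀ : Set (S' s)) := by
      ext x
      simp only [Set.mem_iUnion, Set.mem_image, Set.mem_inter_iff, Set.mem_preimage, Scheme.Hom.comp_apply]
      constructor
      · rintro ⟨hxU, hxV⟩
        obtain ⟨w, hw, hwx⟩ := ha hxV
        have hwW₀ : w ∈ W₀ := ⟨hw, show f s w ∈ V by rw [hwx]; exact hxV⟩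
        obtain ⟨z, hz₁, hz₂⟩ := Scheme.Pullback.exists_preimage_pullback x w (f := X.hom) (g := f s) hwx.symm
        obtain ⟨⟨i, y₀⟩, hy₀⟩ := (sigmaMk fun _ : I s => S' s).surjective (g.hom.left z)
        rw [sigmaMk_mk] at hy₀
        have hi : g.hom.left ≫ g.inv.left = 𝟙 _ := by rw [← Over.comp_left, g.hom_inv_id]; rfl
        have hz : σ i y₀ = z := by
          simp only [σ, Scheme.Hom.comp_apply, hy₀]
          rw [← Scheme.Hom.comp_apply, hi]
          rfl
        have hwy : y₀ = w := by
          rw [← hz₂, ← hz, ← Scheme.Hom.comp_apply]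
          exact (congrArg (fun k => k y₀) (hσq i)).symm
        subst hwy
        refine ⟨i, ?_, y₀, hwW₀, by rw [hz]; exact hz₁⟩
        have h1 : p (σ i hirr.genericPoint) ⤳ x := by
          rw [← hz₁, ← hz]
          exact ((hspec y₀ hwW₀).map (σ i).continuous).map p.continuous
        have h2 : p (σ i hirr.genericPoint) ∈ U := h1.mem_open U.2 hxU
        have h3 : X.hom (p (σ i hirr.genericPoint)) = genericPoint S := by
          rw [← Scheme.Hom.comp_apply, pullback.condition, Scheme.Hom.comp_apply]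
          show f s (q (σ i _)) = _
          rw [← Scheme.Hom.comp_apply (σ i) q, hσq]
          exact hfη
        obtain ⟨Z, hZ, e⟩ := closure_eq_component hS (X := X) (fun s => ⟨S' s, f s, hf s, hsf s, I s, he s⟩) l hl
        exact ((comp_data hS (X := X) (fun s => ⟨S' s, f s, hf s, hsf s, I s, he s⟩)).2 Z hZ).2.unique
          ⟨e ▸ hU ▸ h2, h3⟩ ⟨e ▸ subset_closure rfl, hl⟩
      · rintro ⟨i, hi, w, hw, rfl⟩
        refine ⟨?_, ?_⟩
        · rw [hU]
          exact specializes_iff_mem_closure.1 (hi ▸ ((hspec w hw).map (σ i).continuous).map p.continuous)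
        · rw [← Scheme.Hom.comp_apply, pullback.condition, Scheme.Hom.comp_apply]
          show f s (q (σ i _)) ∈ V
          rw [← Scheme.Hom.comp_apply (σ i) q, hσq]
          exact hw.2
    rw [hC]
    exact hM.isCompact_biUnion fun i _ => hW₀.isCompact.image (σ i ≫ p).continuous
  choose V hV hsV hcomp using key
  rw [IsZariskiLocalAtTarget.iff_of_iSup_eq_top (P := @QuasiCompact) V
    (eq_top_iff.mpr fun s _ => TopologicalSpace.Opens.mem_iSup.mpr ⟨s, hsV s⟩)]
  intro s
  haveI : IsAffine (V s).toScheme := hV s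
  rw [quasiCompact_iff_compactSpace]
  have hc : IsCompact (((U.ι ≫ X.hom) ⁻¹ᵁ V s : U.toScheme.Opens) : Set U.toScheme) := by
    rw [U.ι.isOpenEmbedding.isCompact_iff]
    convert hcomp s using 1
    ext x
    constructor
    · rintro ⟨y, hy, rfl⟩
      exact ⟨y.2, hy⟩
    · rintro ⟨hxU, hxV⟩
      exact ⟨⟨x, hxU⟩, hxV, rfl⟩
  exact isCompact_iff_compactSpace.mp hc

theorem piece_props (l : X.left) (hl : X.hom l = genericPoint S) :
    ∃ U : X.left.Opens, (U : Set X.left) = closure ({l} : Set X.left) ∧ IsClosed (U : Set X.left) ∧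
      IsFinite (U.ι ≫ X.hom) ∧ Etale (U.ι ≫ X.hom) ∧ Surjective (U.ι ≫ X.hom) := by
  let U : X.left.Opens := ⟨_, isOpen_closure hS hX l hl⟩
  haveI := etale_of_twConst hX
  haveI : IsClosedImmersion U.ι := IsClosedImmersion.of_isPreimmersion _ (by
    rw [Scheme.Opens.range_ι]; exact isClosed_closure)
  haveI := quasiCompact_closure hS hX l hl U rfl
  have hfin : IsFinite (U.ι ≫ X.hom) := by
    have hX' := hX
    choose S' f hf hsf I he using hX'
    have hcov := fun s => haveI := hf s; exists_cover_nhd (f s) (hsf s)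
    choose V W e hsV hfl hsu hqc using hcov
    haveI := EtFound.fpqc_isFinite.{u}
    rw [IsZariskiLocalAtTarget.iff_of_iSup_eq_top (P := @IsFinite) V
      (eq_top_iff.mpr fun s _ => TopologicalSpace.Opens.mem_iSup.mpr ⟨s, hsV s⟩)]
    intro s
    obtain ⟨g⟩ := he s
    let k := U.ι ≫ X.hom
    refine MorphismProperty.of_pullback_fst_of_descendsAlong (P := @IsFinite)
      (Q := @Surjective ⊓ @Flat ⊓ @QuasiCompact) (f := (f s).resLE (V s) (W s) (e s)) (g := k ∣_ V s)
      ⟨⟨hsu s, hfl s⟩, hqc s⟩ ?_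
    have hsnd : IsFinite (pullback.snd k (f s)) := GrpSchLib.TwConstClosed.isFinite_snd X U.ι (f s) g
    have h1 : IsPullback (pullback.fst ((f s).resLE (V s) (W s) (e s)) (k ∣_ V s))
        (pullback.snd ((f s).resLE (V s) (W s) (e s)) (k ∣_ V s) ≫ (k ⁻¹ᵁ V s).ι)
        ((W s).ι ≫ f s) k := by
      rw [← Scheme.Hom.resLE_comp_ι (f s) (e s)]
      exact (IsPullback.of_hasPullback _ _).paste_vert (isPullback_morphismRestrict k (V s))
    have h2 : IsPullback (pullback.snd k (f s) ∣_ W s)
        ((pullback.snd k (f s) ⁻¹ᵁ W s).ι ≫ pullback.fst k (f s)) ((W s).ι ≫ f s) k :=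
      (isPullback_morphismRestrict (pullback.snd k (f s)) (W s)).paste_vert
        (IsPullback.of_hasPullback k (f s)).flip
    rw [← h1.isoIsPullback_hom_fst _ _ h2]
    haveI : IsFinite (pullback.snd k (f s) ∣_ W s) := IsZariskiLocalAtTarget.restrict hsnd _
    infer_instance
  refine ⟨U, rfl, isClosed_closure, hfin, inferInstance, ⟨fun s => ?_⟩⟩
  have hc : IsClosed (Set.range (U.ι ≫ X.hom)) := (U.ι ≫ X.hom).isClosedMap.isClosed_range
  exact (genericPoint_specializes s).mem_closed hc
    ⟨⟨l, show l ∈ closure {l} from subset_closure rfl⟩, by rw [Scheme.Hom.comp_apply]; exact hl⟩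

theorem section_ext_generic (σ₁ σ₂ : S ⟶ X.left) (h₁ : σ₁ ≫ X.hom = 𝟙 S) (h₂ : σ₂ ≫ X.hom = 𝟙 S)
    (h : S.fromSpecResidueField (genericPoint S) ≫ σ₁ = S.fromSpecResidueField (genericPoint S) ≫ σ₂) :
    σ₁ = σ₂ := by
  haveI := etale_of_twConst hX
  haveI := isSeparated_of_twConst hX
  let φ := pullback.lift σ₁ σ₂ (h₁.trans h₂.symm)
  let g := pullback.fst φ (pullback.diagonal X.hom)
  let r := pullback.lift (f := φ) (g := pullback.diagonal X.hom) (S.fromSpecResidueField (genericPoint S))
    (S.fromSpecResidueField (genericPoint S) ≫ σ₁)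
    (by
      apply pullback.hom_ext
      · simp only [φ, Category.assoc, pullback.lift_fst, pullback.diagonal_fst, Category.comp_id]
      · simp only [φ, Category.assoc, pullback.lift_snd, pullback.diagonal_snd, Category.comp_id]
        exact h.symm)
  obtain ⟨p⟩ : Nonempty (Spec (S.residueField (genericPoint S))) := inferInstance
  have hmem : genericPoint S ∈ Set.range g :=
    ⟨r p, by rw [← Scheme.Hom.comp_apply, pullback.lift_fst, Scheme.fromSpecResidueField_apply]⟩
  haveI : IsClosedImmersion g := inferInstance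
  haveI : IsIso g := isIso_of_isOpenImmersion_of_opensRange_eq_top g
    (eq_top_iff.mpr fun s _ => (genericPoint_specializes s).mem_closed g.isClosedEmbedding.isClosed_range hmem)
  rw [← cancel_epi g]
  have e := pullback.condition (f := φ) (g := pullback.diagonal X.hom)
  have e1 := congrArg (· ≫ pullback.fst X.hom X.hom) e
  have e2 := congrArg (· ≫ pullback.snd X.hom X.hom) e
  simp only [φ, Category.assoc, pullback.lift_fst, pullback.lift_snd, pullback.diagonal_fst,
    pullback.diagonal_snd, Category.comp_id] at e1 e2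
  exact e1.trans e2.symm

theorem exists_section_generic (τ : Spec (S.residueField (genericPoint S)) ⟶ X.left)
    (hτ : τ ≫ X.hom = S.fromSpecResidueField (genericPoint S)) :
    ∃ σ : S ⟶ X.left, σ ≫ X.hom = 𝟙 S ∧ S.fromSpecResidueField (genericPoint S) ≫ σ = τ := by
  obtain ⟨p⟩ : Nonempty (Spec (S.residueField (genericPoint S))) := inferInstance
  let l := τ p
  have hl : X.hom l = genericPoint S := by
    rw [← Scheme.Hom.comp_apply, hτ, Scheme.fromSpecResidueField_apply]
  obtain ⟨U, hU, hUc, hfin, het, hsurj⟩ := piece_props hS hX l hl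
  haveI := hfin
  haveI := het
  haveI := hsurj
  let k := U.ι ≫ X.hom
  have hτU : Set.range τ ⊆ Set.range U.ι := by
    rintro _ ⟨q, rfl⟩
    rw [Scheme.Opens.range_ι, hU, Subsingleton.elim q p]
    exact subset_closure rfl
  let τ' := IsOpenImmersion.lift U.ι τ hτU
  have hτ' : τ' ≫ k = S.fromSpecResidueField (genericPoint S) := by
    simp only [k, τ', IsOpenImmersion.lift_fac_assoc, hτ]
  -- two field points over the generic point agree
  have hcan : ∀ (T : Scheme.{u}) (w : T) (a : Spec (T.residueField w) ⟶ U.toScheme),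
      (∀ q, k (a q) = genericPoint S) → ∃ c, a = c ≫ τ' := by
    intro T w a ha
    have hz : ∀ z : U.toScheme, k z = genericPoint S → z = τ' p := by
      intro z hz
      apply U.ι.injective
      rw [← Scheme.Hom.comp_apply τ' U.ι, IsOpenImmersion.lift_fac]
      have hzU : U.ι z ∈ closure {l} := hU ▸ z.2
      obtain ⟨Z, hZ, e⟩ := closure_eq_component hS hX l hl
      exact ((comp_data hS hX).2 Z hZ).2.unique
        ⟨e ▸ hzU, by rw [← Scheme.Hom.comp_apply]; exact hz⟩ ⟨e ▸ subset_closure rfl, hl⟩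
    let z0 := τ' p
    obtain ⟨⟨x, t⟩, hxt⟩ := (Scheme.SpecToEquivOfField (S.residueField (genericPoint S)) U.toScheme).symm.surjective τ'
    obtain ⟨⟨y, b⟩, hyb⟩ := (Scheme.SpecToEquivOfField (T.residueField w) U.toScheme).symm.surjective a
    change Spec.map t ≫ U.toScheme.fromSpecResidueField x = τ' at hxt
    change Spec.map b ≫ U.toScheme.fromSpecResidueField y = a at hyb
    have hx : x = z0 := by
      simp only [z0, ← hxt, Scheme.Hom.comp_apply, Scheme.fromSpecResidueField_apply]
    have hy : y = x := by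
      rw [hx]
      apply hz
      obtain ⟨q⟩ : Nonempty (Spec (T.residueField w)) := inferInstance
      have h := congrArg (fun m => m q) hyb
      simp only [Scheme.Hom.comp_apply] at h
      exact (congrArg k ((Scheme.fromSpecResidueField_apply y _).symm.trans h)).trans (ha q)
    subst hy
    have hkx : k y = genericPoint S := by
      have := congrArg (fun m => m p) hτ'
      simp only [Scheme.Hom.comp_apply, Scheme.fromSpecResidueField_apply] at this
      rw [hx]
      exact this
    have h3 : Spec.map t ≫ Spec.map (k.residueFieldMap y) ≫ Spec.map (S.residueFieldCongr hkx.symm).hom = 𝟙 _ := by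
      rw [← cancel_mono (S.fromSpecResidueField (genericPoint S)), Category.id_comp, Category.assoc, Category.assoc,
        Scheme.residueFieldCongr_fromSpecResidueField, Scheme.Hom.SpecMap_residueFieldMap_fromSpecResidueField,
        reassoc_of% hxt, hτ']
    rw [← Spec.map_comp, ← Spec.map_comp, ← Spec.map_id] at h3
    have h4 : ((S.residueFieldCongr hkx.symm).hom ≫ k.residueFieldMap y) ≫ t = 𝟙 _ := Spec.map_injective h3
    have hts : Function.Surjective t := fun c => ⟨((S.residueFieldCongr hkx.symm).hom ≫ k.residueFieldMap y) c,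
      by rw [← CommRingCat.comp_apply, h4]; rfl⟩
    haveI : IsIso t := (ConcreteCategory.isIso_iff_bijective t).mpr ⟨t.hom.injective, hts⟩
    exact ⟨Spec.map b ≫ inv (Spec.map t), by rw [← hxt, Category.assoc, IsIso.inv_hom_id_assoc, hyb]⟩
  haveI : IsClosedImmersion U.ι := IsClosedImmersion.of_isPreimmersion _ (by rw [Scheme.Opens.range_ι]; exact hUc)
  haveI := isSeparated_of_twConst hX
  haveI : Surjective (pullback.diagonal k) := ⟨fun w => by
    show w ∈ Set.range (pullback.diagonal k)
    obtain ⟨η', hη', hη⟩ := Flat.generalizingMap (pullback.fst k k ≫ k)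
      (genericPoint_specializes ((pullback.fst k k ≫ k) w))
    refine Specializes.mem_closed hη' (pullback.diagonal k).isClosedEmbedding.isClosed_range ?_
    let r := (pullback k k).fromSpecResidueField η'
    obtain ⟨a, ha⟩ := hcan _ _ (r ≫ pullback.fst k k) (fun q => by
      rw [← Scheme.Hom.comp_apply, Category.assoc, Scheme.Hom.comp_apply, Scheme.fromSpecResidueField_apply]
      exact hη)
    obtain ⟨b, hb⟩ := hcan _ _ (r ≫ pullback.snd k k) (fun q => by
      rw [← Scheme.Hom.comp_apply, Category.assoc, ← pullback.condition, Scheme.Hom.comp_apply,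
        Scheme.fromSpecResidueField_apply]
      exact hη)
    have hab : a = b := by
      rw [← cancel_mono (S.fromSpecResidueField (genericPoint S)), ← hτ', ← reassoc_of% ha, ← reassoc_of% hb,
        pullback.condition]
    have hd : r = (a ≫ τ') ≫ pullback.diagonal k := by
      apply pullback.hom_ext
      · rw [Category.assoc, pullback.diagonal_fst, Category.comp_id, ha]
      · rw [Category.assoc, pullback.diagonal_snd, Category.comp_id, hb, hab]
    obtain ⟨q⟩ : Nonempty (Spec ((pullback k k).residueField η')) := inferInstance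
    exact ⟨(a ≫ τ') q, by rw [← Scheme.Hom.comp_apply, ← hd, Scheme.fromSpecResidueField_apply]⟩⟩
  haveI : IsIso (pullback.diagonal k) := isIso_of_isOpenImmersion_of_opensRange_eq_top _
    (TopologicalSpace.Opens.ext ((pullback.diagonal k).surjective.range_eq))
  haveI : Mono k := by
    constructor
    intro T a b h
    have e : pullback.fst k k = pullback.snd k k := by
      rw [← cancel_epi (pullback.diagonal k), pullback.diagonal_fst, pullback.diagonal_snd]
    rw [← pullback.lift_fst a b h, e, pullback.lift_snd]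
  haveI : IsIso k := Flat.isIso_of_surjective_of_mono k
  refine ⟨inv k ≫ U.ι, by rw [Category.assoc]; exact IsIso.inv_hom_id k, ?_⟩
  rw [← hτ']
  simp only [Category.assoc, IsIso.hom_inv_id_assoc, τ', IsOpenImmersion.lift_fac]

end Groth.Agent.TwC10
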