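import Groth.Agent.TwC10.Valuative
import Groth.Agent.Eg2Split.Basic
import Groth.Agent.UnibEtale.Comp
import Groth.Agent.AlgSpQ4.HensSection
import Mathlib.AlgebraicGeometry.Morphisms.QuasiFinite

/-!
# Twisted constant schemes over a henselian local ring
-/

set_option autoImplicit false
set_option linter.style.haveILetI false

universe u

open CategoryTheory CategoryTheory.Limits AlgebraicGeometry

namespace Groth.Agent.TwC10

set_option backward.isDefEq.respectTransparency.types false

theorem opens_eq_top_of_closedPoint {R : Type u} [CommRing R] [IsLocalRing R]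
    {W : (Spec (CommRingCat.of R)).Opens} (h : IsLocalRing.closedPoint R ∈ W) : W = ⊤ :=
  eq_top_iff.mpr fun _ _ => (IsLocalRing.specializes_closedPoint _).mem_open W.2 h

variable {R : Type u} [CommRing R] [HenselianLocalRing R] {X : Over (Spec (CommRingCat.of R))}
  (hX : TwC.IsTwConst TwC.Topology.etale X)
include hX

theorem fromSpecStalk_props (x : X.left) (hx : X.hom x = IsLocalRing.closedPoint R) :
    IsOpenImmersion (X.left.fromSpecStalk x) ∧ IsClosedImmersion (X.left.fromSpecStalk x) ∧
      IsFinite (X.left.fromSpecStalk x ≫ X.hom) ∧ Etale (X.left.fromSpecStalk x ≫ X.hom) ∧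
        Surjective (X.left.fromSpecStalk x ≫ X.hom) := by
  haveI := etale_of_twConst hX
  haveI := isSeparated_of_twConst hX
  haveI := UnibEtale.locallyQuasiFinite_of_formallyUnramified X.hom
  obtain ⟨W, hW⟩ := Eg2Split.exists_finitePiece X.hom x hx (X.hom.quasiFiniteAt x)
  obtain ⟨ho, hc, -⟩ := hW.fromSpecStalk hx
  haveI := ho
  haveI := hc
  haveI : IsFinite (W.ι ≫ X.hom) := hW.isFinite
  have hr : Set.range (X.left.fromSpecStalk x) ⊆ Set.range W.ι := by
    rw [Scheme.Opens.range_ι, Scheme.range_fromSpecStalk]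
    exact fun y hy => hy.mem_open W.2 hW.mem
  let l := IsOpenImmersion.lift W.ι (X.left.fromSpecStalk x) hr
  haveI : IsClosedImmersion l := by
    haveI : IsClosedImmersion (l ≫ W.ι) := by rw [IsOpenImmersion.lift_fac]; infer_instance
    exact IsClosedImmersion.of_comp l W.ι
  refine ⟨ho, hc, ?_, inferInstance, ?_⟩
  · rw [← IsOpenImmersion.lift_fac W.ι (X.left.fromSpecStalk x) hr, Category.assoc]
    infer_instance
  · have hmem : IsLocalRing.closedPoint R ∈ Set.range (X.left.fromSpecStalk x ≫ X.hom) :=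
      ⟨IsLocalRing.closedPoint _, by rw [Scheme.Hom.comp_apply, Scheme.fromSpecStalk_closedPoint, hx]⟩
    refine ⟨fun s => ?_⟩
    have h := opens_eq_top_of_closedPoint (W := ⟨_, (X.left.fromSpecStalk x ≫ X.hom).isOpenMap.isOpen_range⟩) hmem
    exact (h ▸ trivial : s ∈ (⟨_, (X.left.fromSpecStalk x ≫ X.hom).isOpenMap.isOpen_range⟩ :
      (Spec (CommRingCat.of R)).Opens))

theorem existsUnique_closed (y : X.left) :
    ∃! x : X.left, X.hom x = IsLocalRing.closedPoint R ∧ y ∈ Set.range (X.left.fromSpecStalk x) := by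
  obtain ⟨p, hp, -⟩ := Scheme.Pullback.exists_preimage_pullback y (X.hom y) (f := X.hom) (g := 𝟙 _) rfl
  obtain ⟨q, hpq, hq⟩ := exists_specializes hX (𝟙 _) p (t := IsLocalRing.closedPoint R)
    (IsLocalRing.specializes_closedPoint _)
  refine existsUnique_of_exists_of_unique ⟨pullback.fst X.hom (𝟙 _) q, ?_, ?_⟩ ?_
  · rw [← Scheme.Hom.comp_apply, pullback.condition, Category.comp_id]
    exact hq
  · rw [Scheme.range_fromSpecStalk, ← hp]
    exact hpq.map (pullback.fst X.hom (𝟙 _)).continuous
  · rintro x₁ x₂ ⟨h₁, hy₁⟩ ⟨h₂, hy₂⟩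
    haveI := (fromSpecStalk_props hX x₁ h₁).2.1
    haveI := (fromSpecStalk_props hX x₂ h₂).2.1
    have key : ∀ (a b : X.left) [IsClosedImmersion (X.left.fromSpecStalk a)],
        y ∈ Set.range (X.left.fromSpecStalk a) → y ∈ Set.range (X.left.fromSpecStalk b) → b ⤳ a := by
      intro a b _ ha hb
      rw [Scheme.range_fromSpecStalk] at hb
      have := (hb : y ⤳ b).mem_closed (X.left.fromSpecStalk a).isClosedEmbedding.isClosed_range ha
      rwa [Scheme.range_fromSpecStalk] at this
    exact ((key x₂ x₁ hy₂ hy₁).antisymm (key x₁ x₂ hy₁ hy₂)).eq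

theorem section_ext (σ₁ σ₂ : Spec (CommRingCat.of R) ⟶ X.left) (h₁ : σ₁ ≫ X.hom = 𝟙 _) (h₂ : σ₂ ≫ X.hom = 𝟙 _)
    (h : Spec.map (CommRingCat.ofHom (IsLocalRing.residue R)) ≫ σ₁ =
      Spec.map (CommRingCat.ofHom (IsLocalRing.residue R)) ≫ σ₂) : σ₁ = σ₂ := by
  haveI := etale_of_twConst hX
  let φ := pullback.lift σ₁ σ₂ (h₁.trans h₂.symm)
  let g := pullback.fst φ (pullback.diagonal X.hom)
  let r := pullback.lift (f := φ) (g := pullback.diagonal X.hom) (Spec.map (CommRingCat.ofHom (IsLocalRing.residue R)))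
    (Spec.map (CommRingCat.ofHom (IsLocalRing.residue R)) ≫ σ₁)
    (by
      apply pullback.hom_ext
      · simp only [φ, Category.assoc, pullback.lift_fst, pullback.diagonal_fst, Category.comp_id]
      · simp only [φ, Category.assoc, pullback.lift_snd, pullback.diagonal_snd, Category.comp_id]
        exact h.symm)
  obtain ⟨p⟩ : Nonempty (Spec (CommRingCat.of (IsLocalRing.ResidueField R))) := inferInstance
  have hmem : IsLocalRing.closedPoint R ∈ g.opensRange := by
    refine ⟨r p, ?_⟩
    rw [← Scheme.Hom.comp_apply, pullback.lift_fst]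
    have hp : p = IsLocalRing.closedPoint (IsLocalRing.ResidueField R) := Subsingleton.elim _ _
    rw [hp]
    exact IsLocalRing.comap_closedPoint (IsLocalRing.residue R)
  haveI : IsIso g := isIso_of_isOpenImmersion_of_opensRange_eq_top g (opens_eq_top_of_closedPoint hmem)
  rw [← cancel_epi g]
  have e := pullback.condition (f := φ) (g := pullback.diagonal X.hom)
  have e1 := congrArg (· ≫ pullback.fst X.hom X.hom) e
  have e2 := congrArg (· ≫ pullback.snd X.hom X.hom) e
  simp only [φ, Category.assoc, pullback.lift_fst, pullback.lift_snd, pullback.diagonal_fst,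
    pullback.diagonal_snd, Category.comp_id] at e1 e2
  exact e1.trans e2.symm

theorem exists_section (τ : Spec (CommRingCat.of (IsLocalRing.ResidueField R)) ⟶ X.left)
    (hτ : τ ≫ X.hom = Spec.map (CommRingCat.ofHom (IsLocalRing.residue R))) :
    ∃ σ : Spec (CommRingCat.of R) ⟶ X.left, σ ≫ X.hom = 𝟙 _ ∧
      Spec.map (CommRingCat.ofHom (IsLocalRing.residue R)) ≫ σ = τ := by
  haveI := etale_of_twConst hX
  haveI : Smooth X.hom := inferInstance
  exact AlgSpQ4.exists_section_smooth (IsLocalRing.maximalIdeal R) (IsLocalRing.maximalIdeal.isMaximal R).ne_top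
    X.hom τ hτ

end Groth.Agent.TwC10
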